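import Mathlib
import Cfsg.Agent.SmallCof.Main
import Cfsg.Agent.SmallOrders.BlockData
import Cfsg.Agent.MEleven.Counts
import Cfsg.Agent.DefectOne.Bridge
import Cfsg.Agent.CharBasics.Avg
import Cfsg.Agent.CharBasics.ModP
import Cfsg.Agent.S4503

/-!
Simple groups of order `p · r · q^b`: the prime `3` divides the order.
-/

set_option autoImplicit false
set_option linter.style.haveILetI false
set_option linter.unusedSectionVars false

namespace CfsgLib.CardPRQ

open Cfsg CfsgLib.CharBasics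

universe u

variable {G : Type u} [Group G] [Finite G]

theorem sylow_card {p : ℕ} [Fact p.Prime] (hd : p ∣ Nat.card G) (hsq : ¬ p ^ 2 ∣ Nat.card G) (P : Sylow p G) :
    Nat.card P = p := by
  obtain ⟨k, hk⟩ := IsPGroup.iff_card.1 P.2
  have h1 : k ≠ 0 := fun e => by
    have := P.pow_dvd_card_of_pow_dvd_card (n := 1) (by rwa [pow_one])
    rw [hk, e, pow_one, pow_zero, Nat.dvd_one] at this
    exact (Fact.out : p.Prime).ne_one this
  have h2 : k < 2 := by
    by_contra h
    exact hsq ((pow_dvd_pow p (not_lt.1 h)).trans (hk ▸ Subgroup.card_subgroup_dvd_card _))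
  rw [hk, show k = 1 by omega, pow_one]

/-- Sums over the elements of order `p`. -/
theorem sum_orderOf [Fintype G] [DecidableEq G] {p : ℕ} [hp : Fact p.Prime] [Fintype (Sylow p G)]
    (h : ∀ P : Sylow p G, Nat.card P = p) (F : G → ℝ) :
    ∑ g ∈ Finset.univ.filter (fun g : G => orderOf g = p), F g =
      ∑ P : Sylow p G, ((∑ g ∈ (Set.toFinite ((P : Subgroup G) : Set G)).toFinset, F g) - F 1) := by
  classical
  have hmem : ∀ (P : Sylow p G) (g : G), g ∈ (P : Subgroup G) → g ≠ 1 → orderOf g = p := fun P g hg hg1 => by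
    have hd := orderOf_dvd_natCard (⟨g, hg⟩ : (P : Subgroup G))
    rw [h P, Subgroup.orderOf_mk] at hd
    exact ((Nat.dvd_prime hp.out).1 hd).resolve_left fun e => hg1 (orderOf_eq_one_iff.1 e)
  have hgen : ∀ (P : Sylow p G) (g : G), g ∈ (P : Subgroup G) → g ≠ 1 → Subgroup.zpowers g = (P : Subgroup G) :=
    fun P g hg hg1 => Subgroup.eq_of_le_of_card_ge (Subgroup.zpowers_le.2 hg)
      (by rw [h P, Nat.card_zpowers, hmem P g hg hg1])
  have hcov : (Finset.univ.filter fun g : G => orderOf g = p) =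
      Finset.univ.biUnion fun P : Sylow p G => (Finset.univ.filter fun g => g ∈ (P : Subgroup G)).erase 1 := by
    ext g
    simp only [Finset.mem_filter, Finset.mem_univ, true_and, Finset.mem_biUnion, Finset.mem_erase]
    constructor
    · intro hg
      obtain ⟨P, hP⟩ := (IsPGroup.of_card (n := 1) (by rw [Nat.card_zpowers, hg, pow_one]) :
        IsPGroup p (Subgroup.zpowers g)).exists_le_sylow
      exact ⟨P, fun e => hp.out.ne_one (by rw [← hg, e, orderOf_one]), hP (Subgroup.mem_zpowers g)⟩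
    · rintro ⟨P, hg1, hgP⟩
      exact hmem P g hgP hg1
  rw [hcov, Finset.sum_biUnion]
  · refine Finset.sum_congr rfl fun P _ => ?_
    rw [Finset.sum_erase_eq_sub (by simp [one_mem])]
    congr 2
    ext g
    simp only [Set.Finite.mem_toFinset, Finset.mem_filter, Finset.mem_univ, true_and, SetLike.mem_coe]
  · intro P _ Q _ hne
    rw [Function.onFun, Finset.disjoint_left]
    intro g hg hg'
    simp only [Finset.mem_erase, Finset.mem_filter, Finset.mem_univ, true_and] at hg hg'
    exact hne (Sylow.ext ((hgen P g hg.2 hg.1).symm.trans (hgen Q g hg'.2 hg'.1)))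

/-- Inertial index and Sylow count at a self-centralising prime. -/
theorem local_data [IsSimpleGroup G] (hna : ∃ x y : G, x * y ≠ y * x) {p : ℕ} [Fact p.Prime] (hd : p ∣ Nat.card G)
    (hsq : ¬ p ^ 2 ∣ Nat.card G) (P : Sylow p G)
    (hC : Subgroup.centralizer ((P : Subgroup G) : Set G) = P) :
    ∃ e, (Subgroup.centralizer ((P : Subgroup G) : Set G)).relIndex (Subgroup.normalizer ((P : Subgroup G) : Set G)) = e ∧
      2 ≤ e ∧ e ∣ p - 1 ∧ Nat.card (Sylow p G) * (p * e) = Nat.card G := by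
  have hP := sylow_card hd hsq P
  haveI := Fintype.ofFinite G
  refine ⟨_, rfl, ?_, ?_, ?_⟩
  · have h0 := Subgroup.index_ne_zero_of_finite
      (H := (Subgroup.centralizer ((P : Subgroup G) : Set G)).subgroupOf (Subgroup.normalizer ((P : Subgroup G) : Set G)))
    have h1 : (Subgroup.centralizer ((P : Subgroup G) : Set G)).relIndex
        (Subgroup.normalizer ((P : Subgroup G) : Set G)) ≠ 1 := fun h =>
      BrauerReynolds.not_normalizer_le_centralizer (SmallCof.perfect hna) P hd (Subgroup.relIndex_eq_one.1 h)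
    rw [Subgroup.relIndex] at h1 ⊢
    omega
  · obtain ⟨D, hD⟩ := DefectOne.exists_data P hP
    rw [← hD, D.relIndex_eq, ← D.card_U_one]
    exact D.card_U_dvd _
  · have h1 := Subgroup.relIndex_mul_relIndex ⊥ (P : Subgroup G) (Subgroup.normalizer ((P : Subgroup G) : Set G))
      bot_le Subgroup.le_normalizer
    rw [Subgroup.relIndex_bot_left, Subgroup.relIndex_bot_left, hP] at h1
    have h2 := MEleven.sylow_count_mul P
    rw [← h1] at h2
    rw [hC, ← h2]
    ring

theorem centralizer_sylow {p q r b : ℕ} [hp : Fact p.Prime] [IsSimpleGroup G] (hq : q.Prime) (hr : r.Prime)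
    (hpq : p ≠ q) (hpr : p ≠ r) (hqr : q ≠ r) (hG : Nat.card G = p * r * q ^ b) (P : Sylow p G) :
    Subgroup.centralizer ((P : Subgroup G) : Set G) = P :=
  Cfsg.Agent.S0904.result r q p 1 b hr hq hqr.symm hpr.symm hpq.symm (by rw [hG]; ring) P

theorem not_sq_dvd {p q r b : ℕ} (hp : p.Prime) (hq : q.Prime) (hr : r.Prime) (hpq : p ≠ q) (hpr : p ≠ r)
    (hG : Nat.card G = p * r * q ^ b) : ¬ p ^ 2 ∣ Nat.card G := fun h => by
  rw [hG, sq, mul_assoc] at h
  rcases hp.dvd_mul.1 (Nat.dvd_of_mul_dvd_mul_left hp.pos h) with h | h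
  · exact hpr ((Nat.prime_dvd_prime_iff_eq hp hr).1 h)
  · exact hpq ((Nat.prime_dvd_prime_iff_eq hp hq).1 (hp.dvd_of_dvd_pow h))

theorem dvd_small {p : ℕ} {x : ℤ} (h : (p : ℤ) ∣ x) (h1 : -(p : ℤ) < x) (h2 : x < p) : x = 0 := by
  refine Int.eq_zero_of_dvd_of_natAbs_lt_natAbs h ?_
  omega

theorem natAbs_cases (x : ℤ) : x = x.natAbs ∨ x = -(x.natAbs : ℤ) := Int.natAbs_eq x

theorem three_pow (j : ℕ) : 2 ^ j % 3 = 1 ∧ 2 ^ (j + 1) % 3 = 2 ∨ 2 ^ j % 3 = 2 ∧ 2 ^ (j + 1) % 3 = 1 := by
  induction j with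
  | zero => exact Or.inl (by norm_num)
  | succ j ih =>
    rcases ih with ⟨h1, h2⟩ | ⟨h1, h2⟩
    · right; refine ⟨h2, ?_⟩; rw [pow_succ, Nat.mul_mod, h2]
    · left; refine ⟨h2, ?_⟩; rw [pow_succ, Nat.mul_mod, h2]

set_option maxHeartbeats 2000000 in
/-- The main step. -/
theorem three_of_lt [IsSimpleGroup G] (hna : ∃ x y : G, x * y ≠ y * x) {p q r b : ℕ} (hp : p.Prime) (hq : q.Prime)
    (hr : r.Prime) (hpq : p ≠ q) (hqr : q ≠ r) (hrp : r < p) (hG : Nat.card G = p * r * q ^ b) :
    r = 3 ∧ q = 2 := by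
  classical
  haveI : Fintype G := Fintype.ofFinite G
  haveI := Fact.mk hp
  haveI := Fact.mk hr
  haveI := Fintype.ofFinite (Sylow p G)
  haveI := Fintype.ofFinite (Sylow r G)
  have hnab : ¬ IsMulCommutative G := fun h => by
    obtain ⟨x, y, hxy⟩ := hna
    exact hxy (h.is_comm.comm x y)
  have hG' : Nat.card G = r * p * q ^ b := by rw [hG]; ring
  have hpd : p ∣ Nat.card G := hG ▸ (dvd_mul_right p r).mul_right _
  have hrd : r ∣ Nat.card G := hG ▸ (dvd_mul_left r p).mul_right _
  have hpsq := not_sq_dvd hp hq hr hpq hrp.ne' hG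
  have hrsq := not_sq_dvd hr hq hp hqr.symm hrp.ne hG'
  obtain ⟨P⟩ : Nonempty (Sylow p G) := inferInstance
  obtain ⟨R⟩ : Nonempty (Sylow r G) := inferInstance
  obtain ⟨e, he, he2, hedvd, hnp⟩ := local_data hna hpd hpsq P (centralizer_sylow hq hr hpq hrp.ne' hqr hG P)
  obtain ⟨e', he', he2', hedvd', hnr⟩ :=
    local_data hna hrd hrsq R (centralizer_sylow hq hp hqr.symm hrp.ne hpq.symm hG' R)
  have hr2 := hr.two_le
  have hep : e ≤ p - 1 := Nat.le_of_dvd (by omega) hedvd
  have her : e' ≤ r - 1 := Nat.le_of_dvd (by have := hr.two_le; omega) hedvd'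
  have hr3 : 3 ≤ r := by omega
  have hpodd := hp.eq_two_or_odd.resolve_left (by omega)
  have hrodd := hr.eq_two_or_odd.resolve_left (by omega)
  -- divisors of the order avoiding two of the primes
  have hdiv : ∀ d : ℕ, d ∣ Nat.card G → ¬ p ∣ d → ¬ q ∣ d → d = 1 ∨ d = r := fun d hd h1 h2 => by
    rw [hG, mul_assoc] at hd
    have h3 := ((hp.coprime_iff_not_dvd.2 h1).symm).dvd_of_dvd_mul_left hd
    exact (Nat.dvd_prime hr).1 ((((hq.coprime_iff_not_dvd.2 h2).symm).pow_right b).dvd_of_dvd_mul_right h3)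
  have hdiv' : ∀ d : ℕ, d ∣ Nat.card G → ¬ r ∣ d → ¬ q ∣ d → d = 1 ∨ d = p := fun d hd h1 h2 => by
    rw [hG', mul_assoc] at hd
    have h3 := ((hr.coprime_iff_not_dvd.2 h1).symm).dvd_of_dvd_mul_left hd
    exact (Nat.dvd_prime hp).1 ((((hq.coprime_iff_not_dvd.2 h2).symm).pow_right b).dvd_of_dvd_mul_right h3)
  -- the exceptional degree at `p` is `r`
  obtain ⟨B⟩ := SmallOrd.exists_blockData hnab (show p ≠ 2 by omega) P (sylow_card hpd hpsq P) he
  have hEnp : ¬ p ∣ B.E.natAbs := fun h => by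
    have h1 : (p : ℤ) ∣ e := by
      have := dvd_sub B.E_spec.2.2 (Int.natCast_dvd.2 h)
      simpa using this
    have := Int.le_of_dvd (by omega) h1
    omega
  have hEq : ¬ q ∣ B.E.natAbs := fun h => by
    obtain ⟨i, hi⟩ : ∃ i, ¬ (q : ℤ) ∣ B.D i := by
      by_contra hc
      push Not at hc
      have h1 : (q : ℤ) ∣ (1 : ℤ) := by
        have := dvd_neg.2 (dvd_add (Finset.dvd_sum fun i (_ : i ∈ Finset.univ) => hc i) (Int.natCast_dvd.2 h))
        have hs := B.sum
        rwa [show -((∑ i, B.D i) + B.E) = (1 : ℤ) by linarith] at this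
      exact hq.not_dvd_one (Int.natCast_dvd.1 h1)
    obtain ⟨h1, h2, h3⟩ := B.D_spec i
    have hnp' : ¬ p ∣ (B.D i).natAbs := fun hh => by
      have : (p : ℤ) ∣ 1 := by simpa using dvd_sub (Int.natCast_dvd.2 hh) h3
      exact hp.not_dvd_one (Int.natCast_dvd.1 this)
    rcases hdiv _ (Int.natAbs_dvd_natAbs.2 h2) hnp' (fun hh => hi (Int.natCast_dvd.2 hh)) with hh | hh
    · rw [Int.abs_eq_natAbs, hh] at h1; omega
    · rcases natAbs_cases (B.D i) with hs | hs <;> rw [hs, hh] at h3 <;> have := dvd_small h3 (by omega) ?_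
      all_goals omega
  obtain ⟨h1, h2, h3⟩ := B.E_spec
  have hEr : B.E.natAbs = r := (hdiv _ (Int.natAbs_dvd_natAbs.2 h2) hEnp hEq).resolve_left fun hh => by
    rw [Int.abs_eq_natAbs, hh] at h1; omega
  obtain ⟨θ, hθ1, hθd⟩ := B.E_char
  rw [hEr] at hθd
  have hp2r : p ≤ 2 * r + 1 := by
    rw [hθd]
    refine Cfsg.Agent.S4503.result p hp hpd hpsq (fun H hH hc => ?_) _ (isCharacter_of_irr θ.2)
      (fun g => SmallCof.faithful hθ1)
    rcases IsSimpleGroup.eq_bot_or_eq_top_of_normal H hH with rfl | rfl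
    · rw [Subgroup.card_bot] at hc; exact hp.ne_one hc.symm
    · rw [Subgroup.card_top] at hc
      rw [hc] at hrd
      exact hrp.ne ((Nat.prime_dvd_prime_iff_eq hr hp).1 hrd)
  -- the two cases
  have hcase : (e = r ∧ p = 2 * r + 1) ∨ (r + e = p ∧ e < r) := by
    rcases natAbs_cases B.E with hs | hs <;> rw [hs, hEr] at h3
    · rcases eq_or_lt_of_le (show p ≤ r + e from Nat.le_of_dvd (by omega) (Int.natCast_dvd_natCast.1 (by exact_mod_cast h3)))
        with hh | hh
      · refine Or.inr ⟨hh.symm, ?_⟩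
        obtain ⟨c, hc⟩ := hedvd
        rcases c with _ | _ | c
        · omega
        · omega
        · have : e * 2 ≤ p - 1 := hc ▸ Nat.mul_le_mul_left e (by omega)
          omega
      · exfalso
        have := dvd_small (p := p) (x := (r : ℤ) + e - p) (dvd_sub h3 dvd_rfl) (by omega) (by omega)
        omega
    · have := dvd_small h3 (by omega) (by omega)
      obtain ⟨c, hc⟩ := hedvd
      have her' : e = r := by omega
      subst her'
      refine Or.inl ⟨rfl, ?_⟩
      rcases c with _ | _ | _ | c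
      · omega
      · omega
      · omega
      · have : e * 3 ≤ p - 1 := hc ▸ Nat.mul_le_mul_left e (by omega)
        omega
  -- counting
  have hkey : r * e' * (p - r - 1) < p * e := by
    set F : G → ℝ := fun g => ‖(θ : G → ℂ) g‖ ^ 2 with hF
    set Sp := Finset.univ.filter fun g : G => orderOf g = p with hSp
    set Sr := Finset.univ.filter fun g : G => orderOf g = r with hSr
    set S := ((Finset.univ.erase (1 : G)) \ Sp) \ Sr with hS
    have hP : ∀ Q : Sylow p G, Nat.card Q = p := sylow_card hpd hpsq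
    have hR : ∀ Q : Sylow r G, Nat.card Q = r := sylow_card hrd hrsq
    have hcp : Sp.card = Nat.card (Sylow p G) * (p - 1) := by
      rw [hSp, ← Fintype.card_subtype, ← Nat.card_eq_fintype_card, MEleven.card_orderOf hP]
    have hcr : Sr.card = Nat.card (Sylow r G) * (r - 1) := by
      rw [hSr, ← Fintype.card_subtype, ← Nat.card_eq_fintype_card, MEleven.card_orderOf hR]
    have hsub1 : Sp ⊆ Finset.univ.erase (1 : G) := fun g hg =>
      Finset.mem_erase.2 ⟨fun h => hp.ne_one (by rw [← (Finset.mem_filter.1 hg).2, h, orderOf_one]), Finset.mem_univ _⟩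
    have hsub2 : Sr ⊆ Finset.univ.erase (1 : G) \ Sp := fun g hg =>
      Finset.mem_sdiff.2 ⟨Finset.mem_erase.2 ⟨fun h => hr.ne_one (by rw [← (Finset.mem_filter.1 hg).2, h, orderOf_one]),
        Finset.mem_univ _⟩, fun h => hrp.ne ((Finset.mem_filter.1 hg).2.symm.trans (Finset.mem_filter.1 h).2)⟩
    have hcS : S.card + Sr.card + Sp.card + 1 = Nat.card G := by
      rw [hS, Finset.card_sdiff_add_card_eq_card hsub2, Finset.card_sdiff_add_card_eq_card hsub1,
        Finset.card_erase_add_one (Finset.mem_univ _), Finset.card_univ, Nat.card_eq_fintype_card]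
    have hF1 : F 1 = (r : ℝ) ^ 2 := by
      show ‖(θ : G → ℂ) 1‖ ^ 2 = _
      rw [apply_one (isCharacter_of_irr θ.2), ← hθd, Complex.norm_natCast]
    have hSp_ge : (Nat.card (Sylow p G) : ℝ) * ((r : ℝ) * p - (r : ℝ) ^ 2) ≤ ∑ g ∈ Sp, F g := by
      rw [hSp, sum_orderOf hP F, Nat.card_eq_fintype_card, ← Finset.card_univ, ← nsmul_eq_mul, hF1]
      refine Finset.card_nsmul_le_sum _ _ _ fun Q _ => ?_
      haveI : Fintype (Q : Subgroup G) := Fintype.ofFinite _
      rw [Finset.sum_subtype _ (p := fun g => g ∈ (Q : Subgroup G))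
        (fun g => by simp only [Set.Finite.mem_toFinset, SetLike.mem_coe]) F]
      haveI : IsCyclic (Q : Subgroup G) := isCyclic_of_prime_card (hP Q)
      haveI : IsMulCommutative (Q : Subgroup G) := ⟨⟨fun a b => (IsCyclic.commGroup (α := (Q : Subgroup G))).mul_comm a b⟩⟩
      have h := SmallCof.norm_ge (isCharacter_of_irr θ.2) (Q : Subgroup G)
      rw [← hθd, hP Q] at h
      push_cast at h
      linarith
    have hS_ge : (S.card : ℝ) ≤ ∑ g ∈ S, F g := by
      obtain ⟨M, hM⟩ := Blocks.exists_modular hq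
      refine card_le_sum_normSq Nat.card_pos.ne' dvd_rfl (cycPoly_character (isCharacter_of_irr θ.2)) S
        (fun g hg j hj => ?_) fun g hg => ?_
      · have ho : orderOf (g ^ j) = orderOf g :=
          Nat.Coprime.orderOf_pow ((hj.coprime_dvd_right (orderOf_dvd_natCard g)).symm)
        have ho1 : g ^ j = 1 ↔ g = 1 := by rw [← orderOf_eq_one_iff, ho, orderOf_eq_one_iff]
        simp only [hS, hSp, hSr, Finset.mem_sdiff, Finset.mem_erase, Finset.mem_filter, Finset.mem_univ, and_true,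
          true_and, ne_eq, ho, ho1] at hg ⊢
        exact hg
      · simp only [hS, hSp, hSr, Finset.mem_sdiff, Finset.mem_erase, Finset.mem_filter, Finset.mem_univ, and_true,
          true_and] at hg
        have hno : ∀ (s : ℕ), s.Prime → s ∣ orderOf g →
            (∀ z : G, orderOf z = s → Subgroup.centralizer ({z} : Set G) = Subgroup.zpowers z) → orderOf g = s := by
          intro s hs hd hz
          have hzo : orderOf (g ^ (orderOf g / s)) = s := orderOf_pow_orderOf_div (orderOf_pos g).ne' hd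
          have hgz : g ∈ Subgroup.zpowers (g ^ (orderOf g / s)) := by
            rw [← hz _ hzo, Subgroup.mem_centralizer_singleton_iff]
            exact (Commute.refl g).pow_right _
          exact ((hs.eq_one_or_self_of_dvd _ (hzo ▸ orderOf_dvd_of_mem_zpowers hgz)).resolve_left
            fun h => hg.1.1 (orderOf_eq_one_iff.1 h))
        have hp' : ¬ p ∣ orderOf g := fun hd => hg.1.2 (hno p hp hd fun z hz =>
          SmallCof.centralizer_once hr hq hp hqr.symm hrp.ne hpq.symm (a := 1) (b := b) (by rw [hG]; ring) hz)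
        have hr' : ¬ r ∣ orderOf g := fun hd => hg.2 (hno r hr hd fun z hz =>
          SmallCof.centralizer_once hp hq hr hpq hrp.ne' hqr (a := 1) (b := b) (by rw [hG]; ring) hz)
        have hdq : orderOf g ∣ q ^ b := by
          have h := orderOf_dvd_natCard g
          rw [hG, mul_assoc] at h
          exact ((hr.coprime_iff_not_dvd.2 hr').symm).dvd_of_dvd_mul_left
            (((hp.coprime_iff_not_dvd.2 hp').symm).dvd_of_dvd_mul_left h)
        refine apply_ne_zero_of_not_dvd hM (isCharacter_of_irr θ.2) (orderOf_dvd_iff_pow_eq_one.1 hdq) ?_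
        rw [← hθd]
        exact fun h => hqr ((Nat.prime_dvd_prime_iff_eq hq hr).1 h)
    have htot : F 1 + ∑ g ∈ Sp, F g + ∑ g ∈ S, F g ≤ (Nat.card G : ℝ) := by
      rw [← sum_normSq_irr θ, ← Finset.add_sum_erase _ _ (Finset.mem_univ (1 : G)),
        ← Finset.sum_sdiff hsub1, ← Finset.sum_sdiff hsub2, ← hS]
      have : 0 ≤ ∑ g ∈ Sr, F g := Finset.sum_nonneg fun g _ => sq_nonneg _
      simp only [hF] at this ⊢
      linarith
    rw [hF1] at htot
    set np := Nat.card (Sylow p G)
    set nr := Nat.card (Sylow r G)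
    have hnat : r ^ 2 + np * (r * p - r ^ 2) + S.card ≤ Nat.card G := by
      have : r ^ 2 ≤ r * p := by rw [sq]; exact Nat.mul_le_mul_left r hrp.le
      have hh : ((r ^ 2 + np * (r * p - r ^ 2) + S.card : ℕ) : ℝ) ≤ (Nat.card G : ℝ) := by
        push_cast [this]
        linarith
      exact_mod_cast hh
    obtain ⟨c, rfl⟩ : ∃ c, p = r + 1 + c := ⟨p - (r + 1), by omega⟩
    obtain ⟨r₁, rfl⟩ : ∃ r₁, r = r₁ + 1 := ⟨r - 1, by omega⟩
    rw [show (r₁ + 1) * (r₁ + 1 + 1 + c) - (r₁ + 1) ^ 2 = (r₁ + 1) * (c + 1) by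
      rw [sq, ← Nat.mul_sub_left_distrib]
      congr 1
      omega] at hnat
    rw [show r₁ + 1 + 1 + c - 1 = r₁ + 1 + c by omega] at hcp
    rw [show r₁ + 1 - 1 = r₁ by omega] at hcr
    rw [show r₁ + 1 + 1 + c - (r₁ + 1) - 1 = c by omega]
    have h' : r₁ * (np * c) < r₁ * nr := by
      rw [hcp, hcr] at hcS
      nlinarith
    have h'' : np * c < nr := Nat.lt_of_mul_lt_mul_left h'
    have hpos : 0 < Nat.card G := Nat.card_pos
    refine Nat.lt_of_mul_lt_mul_left (a := Nat.card G) ?_
    calc Nat.card G * ((r₁ + 1) * e' * c) = np * c * ((r₁ + 1 + 1 + c) * e * ((r₁ + 1) * e')) := by rw [← hnp]; ring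
      _ < nr * ((r₁ + 1 + 1 + c) * e * ((r₁ + 1) * e')) := Nat.mul_lt_mul_of_pos_right h'' (by positivity)
      _ = Nat.card G * ((r₁ + 1 + 1 + c) * e) := by rw [← hnr]; ring
  have he'2 : e' = 2 := by
    rcases hcase with ⟨rfl, rfl⟩ | ⟨rfl, hlt⟩
    · rw [show 2 * e + 1 - e - 1 = e by omega] at hkey
      by_contra hne
      have : e * 3 * e ≤ e * e' * e := Nat.mul_le_mul_right _ (Nat.mul_le_mul_left _ (by omega))
      nlinarith
    · rw [show r + e - r - 1 = e - 1 by omega] at hkey
      obtain ⟨k, rfl⟩ : ∃ k, e = k + 2 := ⟨e - 2, by omega⟩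
      rw [show k + 2 - 1 = k + 1 by omega] at hkey
      by_contra hne
      rcases Nat.lt_or_ge e' 4 with h4 | h4
      · obtain rfl : e' = 3 := by omega
        have h1 : (k + 3) * (2 * k + 1) ≤ r * (2 * k + 1) := Nat.mul_le_mul_right _ (by omega)
        have hk0 : k = 0 := by
          by_contra hk0
          have : 1 ≤ k := by omega
          nlinarith
        subst hk0
        obtain rfl : r = 3 := by omega
        omega
      · have h0 : r * 4 * (k + 1) ≤ r * e' * (k + 1) := Nat.mul_le_mul_right _ (Nat.mul_le_mul_left _ h4)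
        have h1 : (k + 3) * (3 * k + 2) ≤ r * (3 * k + 2) := Nat.mul_le_mul_right _ (by omega)
        nlinarith
  subst he'2
  have hq2 : q = 2 := by
    have h2 : 2 ∣ Nat.card G := ⟨Nat.card (Sylow r G) * r, by rw [← hnr]; ring⟩
    rw [hG] at h2
    rcases Nat.prime_two.dvd_mul.1 h2 with h | h
    · rcases Nat.prime_two.dvd_mul.1 h with h | h <;> omega
    · exact ((Nat.prime_dvd_prime_iff_eq Nat.prime_two hq).1 (Nat.prime_two.dvd_of_dvd_pow h)).symm
  subst hq2
  refine ⟨?_, rfl⟩
  -- the principal `r`-block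
  obtain ⟨C⟩ := SmallOrd.exists_blockData hnab (show r ≠ 2 by omega) R (sylow_card hrd hrsq R) he'
  have hC1 : C.n = 1 := by have := C.n_eq; omega
  let i₀ : Fin C.n := ⟨0, by omega⟩
  obtain ⟨hD1, hD2, hD3⟩ := C.D_spec i₀
  obtain ⟨hE1, hE2, hE3⟩ := C.E_spec
  have hsum : 1 + C.D i₀ + C.E = 0 := by
    have := C.sum
    rwa [Finset.sum_eq_single i₀ (fun j _ hj => absurd (Fin.ext (by
      have := j.2
      show (j : ℕ) = 0
      omega)) hj) (fun h => absurd (Finset.mem_univ _) h)] at this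
  push_cast at hE3
  have hnrD : ¬ r ∣ (C.D i₀).natAbs := fun hh => by
    have : (r : ℤ) ∣ 1 := by simpa using dvd_sub (Int.natCast_dvd.2 hh) hD3
    exact hr.not_dvd_one (Int.natCast_dvd.1 this)
  have hnrE : ¬ r ∣ C.E.natAbs := fun hh => by
    have h2' : (r : ℤ) ∣ 2 := by simpa using dvd_sub hE3 (Int.natCast_dvd.2 hh)
    have := Int.le_of_dvd (by norm_num) h2'
    omega
  obtain ⟨hmod, k, hk⟩ : ((r : ℤ) ∣ p - 1 ∨ (r : ℤ) ∣ p + 1 ∨ (r : ℤ) ∣ p - 2 ∨ (r : ℤ) ∣ p + 2) ∧
      ∃ k, p + 1 = 2 ^ k ∨ p = 2 ^ k + 1 := by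
    have hother : ∀ x : ℤ, x ∣ Nat.card G → ¬ r ∣ x.natAbs → (x.natAbs = p + 1 ∨ x.natAbs + 1 = p) →
        ∃ k, p + 1 = 2 ^ k ∨ p = 2 ^ k + 1 := by
      intro x hx hxr hxp
      have h := Int.natAbs_dvd_natAbs.2 hx
      rw [Int.natAbs_natCast, hG', mul_assoc] at h
      have h4 := ((hr.coprime_iff_not_dvd.2 hxr).symm).dvd_of_dvd_mul_left h
      have hxp' : ¬ p ∣ x.natAbs := fun hh => by
        rcases hxp with e1 | e1
        · rw [e1] at hh
          exact hp.not_dvd_one ((Nat.dvd_add_right dvd_rfl).1 hh)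
        · have := Nat.le_of_dvd (by omega) hh
          omega
      obtain ⟨k, -, hk⟩ := (Nat.dvd_prime_pow Nat.prime_two).1 (((hp.coprime_iff_not_dvd.2 hxp').symm).dvd_of_dvd_mul_left h4)
      refine ⟨k, ?_⟩
      omega
    rcases Int.even_or_odd (C.D i₀) with hev | hod
    · have hodE : Odd C.E := by
        rw [show C.E = -(C.D i₀) - 1 by linarith]
        exact hev.neg.sub_odd odd_one
      rcases hdiv' _ (Int.natAbs_dvd_natAbs.2 hE2) hnrE
        (fun hh => (Int.not_even_iff_odd.2 hodE) (even_iff_two_dvd.2 (Int.natCast_dvd.2 hh))) with hh | hh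
      · rw [Int.abs_eq_natAbs, hh] at hE1; omega
      · refine ⟨?_, hother _ hD2 hnrD (by omega)⟩
        rcases natAbs_cases C.E with hs | hs <;> rw [hs, hh] at hE3
        · exact Or.inr (Or.inr (Or.inr hE3))
        · exact Or.inr (Or.inr (Or.inl (dvd_neg.1 (by rwa [show -((p : ℤ) - 2) = -(p : ℤ) + 2 by ring]))))
    · rcases hdiv' _ (Int.natAbs_dvd_natAbs.2 hD2) hnrD
        (fun hh => (Int.not_even_iff_odd.2 hod) (even_iff_two_dvd.2 (Int.natCast_dvd.2 hh))) with hh | hh
      · rw [Int.abs_eq_natAbs, hh] at hD1; omega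
      · refine ⟨?_, hother _ hE2 hnrE (by omega)⟩
        rcases natAbs_cases (C.D i₀) with hs | hs <;> rw [hs, hh] at hD3
        · exact Or.inl hD3
        · exact Or.inr (Or.inl (dvd_neg.1 (by rwa [show -((p : ℤ) + 1) = -(p : ℤ) - 1 by ring])))
  have h3r : 3 ∣ r → r = 3 := fun h => ((Nat.prime_dvd_prime_iff_eq Nat.prime_three hr).1 h).symm
  have h3p : ¬ 3 ∣ p := fun h => by have := (Nat.prime_dvd_prime_iff_eq Nat.prime_three hp).1 h; omega
  rcases hcase with ⟨-, rfl⟩ | ⟨rfl, hlt⟩
  · -- `p = 2r + 1`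
    rcases k with _ | k
    · rw [pow_zero] at hk; omega
    rcases hk with hk | hk
    · have hk2 : 2 ^ (k + 1) = 2 * 2 ^ k := pow_succ' 2 k
      have h3 := three_pow k
      by_contra hne
      have : ¬ 3 ∣ r := fun h => hne (h3r h)
      omega
    · have hk2 : 2 ^ (k + 1) = 2 * 2 ^ k := pow_succ' 2 k
      rcases k with _ | k
      · omega
      · have : 2 ^ (k + 1) = 2 * 2 ^ k := pow_succ' 2 k
        omega
  · -- `p = r + e`
    push_cast at hmod
    have hsmall : e + 1 = r ∨ e = 2 := by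
      rcases hmod with h | h | h | h
      · have := dvd_small (x := (e : ℤ) - 1) (by simpa [add_sub_assoc] using h) (by omega) (by omega)
        omega
      · have h' : r ∣ e + 1 := (Nat.dvd_add_right dvd_rfl).1 (Int.natCast_dvd_natCast.1 (by push_cast; rwa [← add_assoc]))
        exact Or.inl (le_antisymm (by omega) (Nat.le_of_dvd (by omega) h'))
      · have := dvd_small (x := (e : ℤ) - 2) (by simpa [add_sub_assoc] using h) (by omega) (by omega)
        omega
      · have h' : r ∣ e + 2 := (Nat.dvd_add_right dvd_rfl).1 (Int.natCast_dvd_natCast.1 (by push_cast; rwa [← add_assoc]))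
        obtain ⟨c, hc⟩ := h'
        rcases c with _ | _ | c
        · omega
        · omega
        · have : r * 2 ≤ e + 2 := hc ▸ Nat.mul_le_mul_left r (by omega)
          omega
    rcases hsmall with hs | hs
    · -- `e = r - 1` is a power of two
      have hd : e ∣ 2 ^ b := by
        have h : e ∣ r * 2 ^ b := ⟨Nat.card (Sylow (r + e) G), Nat.eq_of_mul_eq_mul_left hp.pos (by
          rw [← mul_assoc, ← hG, ← hnp]; ring)⟩
        exact ((hr.coprime_iff_not_dvd.2 fun hh => by have := Nat.le_of_dvd (by omega) hh; omega).symm).dvd_of_dvd_mul_left h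
      obtain ⟨j, -, rfl⟩ := (Nat.dvd_prime_pow Nat.prime_two).1 hd
      have hj2 : 2 ^ (j + 1) = 2 * 2 ^ j := pow_succ' 2 j
      have h3 := three_pow j
      by_contra hne
      have : ¬ 3 ∣ r := fun h => hne (h3r h)
      omega
    · subst hs
      have hB1 : B.n = 1 := by have := B.n_eq; omega
      let j₀ : Fin B.n := ⟨0, by omega⟩
      obtain ⟨g1, g2, g3⟩ := B.D_spec j₀
      have hsB : 1 + B.D j₀ + B.E = 0 := by
        have := B.sum
        rwa [Finset.sum_eq_single j₀ (fun j _ hj => absurd (Fin.ext (by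
          have := j.2
          show (j : ℕ) = 0
          omega)) hj) (fun h => absurd (Finset.mem_univ _) h)] at this
      obtain ⟨h1, h2, h3⟩ := B.E_spec
      push_cast at h3 g3
      have hDabs : (B.D j₀).natAbs = r + 1 := by
        rcases natAbs_cases B.E with hs | hs <;> rw [hs, hEr] at hsB h3
        · omega
        · exfalso
          have := dvd_small (x := -(r : ℤ) + 2) (p := r + 2) (by push_cast; exact h3) (by omega) (by omega)
          omega
      have hd : r + 1 ∣ 2 ^ b := by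
        have h := Int.natAbs_dvd_natAbs.2 g2
        rw [Int.natAbs_natCast, hDabs, hG, mul_assoc] at h
        have hc1 : Nat.Coprime (r + 1) (r + 2) := by
          rw [show r + 2 = (r + 1) + 1 from rfl, Nat.coprime_self_add_right]; exact Nat.coprime_one_right _
        have hc2 : Nat.Coprime (r + 1) r := by
          rw [Nat.coprime_comm, Nat.coprime_self_add_right]; exact Nat.coprime_one_right _
        exact hc2.dvd_of_dvd_mul_left (hc1.dvd_of_dvd_mul_left h)
      obtain ⟨j, -, hj⟩ := (Nat.dvd_prime_pow Nat.prime_two).1 hd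
      have hj2 : 2 ^ (j + 1) = 2 * 2 ^ j := pow_succ' 2 j
      have h4 := three_pow j
      by_contra hne
      have : ¬ 3 ∣ r := fun h => hne (h3r h)
      omega

end CfsgLib.CardPRQ
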